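import Cfsg.Agent.H662.HT.Two

/-!
# The field generated by a normal abelian homogeneous subgroup (helper768)

`exists_field` : `G` an irreducible linear group over `ZMod p`, `A` a normal abelian subgroup, `V|_A` homogeneous: the
enveloping algebra `K` of `A` is a field, `G` acts `K`-semilinearly.
-/

set_option autoImplicit false

open scoped commutatorElement

namespace Cfsg.Agent.H768.HT

open Cfsg.Agent.H828.HT
open Cfsg.Agent.H960.HT (Irr Homog NIrr Sys env exists_nirr sSup_nirr unitOf nrm_of)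
open Cfsg.Agent.H662.HT (KS)

universe u

variable {p : ℕ} [Fact p.Prime] {V : Type u} [AddCommGroup V] [Module (ZMod p) V]

section basic

variable {A : Subgroup (V ≃ₗ[ZMod p] V)}

theorem mem_env {a : V ≃ₗ[ZMod p] V} (ha : a ∈ A) : (a : V →ₗ[ZMod p] V) ∈ env A :=
  Algebra.subset_adjoin ⟨a, ha, rfl⟩

theorem env_inv {M : Submodule (ZMod p) V} (hM : ∀ n ∈ A, ∀ v ∈ M, n v ∈ M) {e : Module.End (ZMod p) V} (he : e ∈ env A) :
    ∀ v ∈ M, e v ∈ M := by
  refine Algebra.adjoin_induction (p := fun a _ => ∀ v ∈ M, a v ∈ M) ?_ ?_ ?_ ?_ he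
  · rintro _ ⟨n, hn, rfl⟩ v hv
    exact hM n hn v hv
  · intro r v hv
    exact M.smul_mem r hv
  · intro x y _ _ hx hy v hv
    exact M.add_mem (hx v hv) (hy v hv)
  · intro x y _ _ hx hy v hv
    exact hx _ (hy v hv)

/-- an isomorphism of `A`-submodules commutes with the enveloping algebra -/
theorem env_comm {M M' : Submodule (ZMod p) V} (hM : ∀ n ∈ A, ∀ v ∈ M, n v ∈ M) (φ : M ≃ₗ[ZMod p] M')
    (hφ : ∀ n ∈ A, ∀ v w : M, (w : V) = n v → (φ w : V) = n (φ v)) {e : Module.End (ZMod p) V} (he : e ∈ env A) :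
    ∀ v w : M, (w : V) = e v → (φ w : V) = e (φ v) := by
  refine Algebra.adjoin_induction (p := fun a _ => ∀ v w : M, (w : V) = a v → (φ w : V) = a (φ v)) ?_ ?_ ?_ ?_ he
  · rintro _ ⟨n, hn, rfl⟩ v w h
    exact hφ n hn v w h
  · intro r v w h
    have h1 : w = r • v := Subtype.ext h
    rw [h1, map_smul]
    rfl
  · intro x y hx' hy' hx hy v w h
    have h1 : w = ⟨x v, env_inv hM hx' v v.2⟩ + ⟨y v, env_inv hM hy' v v.2⟩ := Subtype.ext h
    rw [h1, map_add]
    show (φ ⟨x v, _⟩ : V) + (φ ⟨y v, _⟩ : V) = x (φ v) + y (φ v)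
    rw [hx v ⟨x v, env_inv hM hx' v v.2⟩ rfl, hy v ⟨y v, env_inv hM hy' v v.2⟩ rfl]
  · intro x y hx' hy' hx hy v w h
    rw [hx ⟨y v, env_inv hM hy' v v.2⟩ w h, hy v ⟨y v, env_inv hM hy' v v.2⟩ rfl]
    rfl

theorem comm_env (hAc : ∀ a ∈ A, ∀ b ∈ A, a * b = b * a) {a : V ≃ₗ[ZMod p] V} (ha : a ∈ A)
    {e : Module.End (ZMod p) V} (he : e ∈ env A) (v : V) : a (e v) = e (a v) := by
  have : ∀ v, a (e v) = e (a v) := by
    refine Algebra.adjoin_induction (p := fun e _ => ∀ v, a (e v) = e (a v)) ?_ ?_ ?_ ?_ he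
    · rintro _ ⟨n, hn, rfl⟩ v
      exact LinearEquiv.congr_fun (hAc a ha n hn) v
    · intro r v
      exact map_smul a r v
    · intro x y _ _ hx hy v
      show a (x v + y v) = x (a v) + y (a v)
      rw [map_add, hx, hy]
    · intro x y _ _ hx hy v
      show a (x (y v)) = x (y (a v))
      rw [hx, hy]
  exact this v

theorem env_mul_comm (hAc : ∀ a ∈ A, ∀ b ∈ A, a * b = b * a) {x y : Module.End (ZMod p) V} (hx : x ∈ env A)
    (hy : y ∈ env A) : x * y = y * x := by
  refine Algebra.adjoin_induction (p := fun e _ => e * y = y * e) ?_ ?_ ?_ ?_ hx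
  · rintro _ ⟨n, hn, rfl⟩
    apply LinearMap.ext
    intro v
    exact comm_env hAc hn hy v
  · intro r
    exact Algebra.commutes r y
  · intro a b _ _ ha hb
    rw [add_mul, mul_add, ha, hb]
  · intro a b _ _ ha hb
    rw [mul_assoc, hb, ← mul_assoc, ha, mul_assoc]

end basic

variable [Finite V]

instance finEnd : Finite (Module.End (ZMod p) V) := DFunLike.finite _

theorem ker_eq_bot [Nontrivial V] {G A : Subgroup (V ≃ₗ[ZMod p] V)} (hirr : Irr G)
    (hA : ∀ g ∈ G, ∀ a ∈ A, g * a * g⁻¹ ∈ A) (hAc : ∀ a ∈ A, ∀ b ∈ A, a * b = b * a) (hhom : Homog A)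
    {e : Module.End (ZMod p) V} (he : e ∈ env A) (h0 : e ≠ 0) : LinearMap.ker e = ⊥ := by
  by_contra hne
  obtain ⟨M, hMe, hM⟩ := exists_nirr A hne (by
    intro n hn v hv
    rw [LinearMap.mem_ker] at hv ⊢
    rw [← comm_env hAc hn he, hv, map_zero])
  apply h0
  have h2 : (⊤ : Submodule (ZMod p) V) ≤ LinearMap.ker e := by
    rw [← sSup_nirr hirr hA]
    refine sSup_le fun M' hM' v hv => ?_
    obtain ⟨φ, hφ⟩ := hhom M M' hM hM'
    have h3 := env_comm hM.inv φ hφ he (φ.symm ⟨v, hv⟩) 0 (by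
      have h4 := hMe (φ.symm ⟨v, hv⟩).2
      rw [LinearMap.mem_ker] at h4
      rw [h4]; rfl)
    rw [φ.apply_symm_apply, map_zero] at h3
    rw [LinearMap.mem_ker]
    exact h3.symm
  apply LinearMap.ext
  intro v
  exact h2 (Submodule.mem_top (x := v))

/-- the commutative ring -/
@[reducible] def cr {A : Subgroup (V ≃ₗ[ZMod p] V)} (hAc : ∀ a ∈ A, ∀ b ∈ A, a * b = b * a) : CommRing (env A) :=
  { (inferInstance : Ring (env A)) with
    mul_comm := fun x y => Subtype.ext (env_mul_comm hAc x.2 y.2) }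

/-- P1 -/
theorem exists_field [Nontrivial V] {G A : Subgroup (V ≃ₗ[ZMod p] V)} (hirr : Irr G) (hAG : A ≤ G)
    (hA : ∀ g ∈ G, ∀ a ∈ A, g * a * g⁻¹ ∈ A) (hAc : ∀ a ∈ A, ∀ b ∈ A, a * b = b * a) (hhom : Homog A) :
    ∃ (K : Type u) (_ : Field K) (_ : Module K V) (χ : A →* Kˣ) (σ : G →* (K ≃+* K)), KS G A K χ σ := by
  classical
  let R : CommRing (env A) := cr hAc
  have hfin : Finite (env A) := inferInstance
  have hnt : Nontrivial (env A) := by
    refine ⟨⟨0, 1, fun h => ?_⟩⟩
    obtain ⟨v, hv⟩ := exists_ne (0 : V)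
    apply hv
    have h1 := LinearMap.congr_fun (congrArg Subtype.val h) v
    exact h1.symm
  have hnz : NoZeroDivisors (env A) := by
    refine ⟨fun {x y} hxy => ?_⟩
    by_contra hcon
    push Not at hcon
    obtain ⟨hx, hy⟩ := hcon
    have hx' : (x : Module.End (ZMod p) V) ≠ 0 := fun h => hx (Subtype.ext h)
    apply hy
    apply Subtype.ext
    apply LinearMap.ext
    intro v
    have h1 : (x : Module.End (ZMod p) V) ((y : Module.End (ZMod p) V) v) = 0 :=
      LinearMap.congr_fun (congrArg Subtype.val hxy) v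
    have h2 : (y : Module.End (ZMod p) V) v ∈ LinearMap.ker (x : Module.End (ZMod p) V) := h1
    rw [ker_eq_bot hirr hA hAc hhom x.2 hx', Submodule.mem_bot] at h2
    exact h2
  have hdom : IsDomain (env A) := NoZeroDivisors.to_isDomain _
  have hF : IsField (env A) := Finite.isField_of_domain _
  let F : Field (env A) := hF.toField
  let M : Module (env A) V :=
    { smul := fun x v => (x : Module.End (ZMod p) V) v
      one_smul := fun v => rfl
      mul_smul := fun x y v => rfl
      smul_zero := fun x => map_zero (x : Module.End (ZMod p) V)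
      smul_add := fun x v w => map_add (x : Module.End (ZMod p) V) v w
      add_smul := fun x y v => rfl
      zero_smul := fun v => rfl }
  have hsm : ∀ (x : env A) (v : V), x • v = (x : Module.End (ZMod p) V) v := fun _ _ => rfl
  -- the character
  let χ : A →* (env A)ˣ :=
    { toFun := fun a => ⟨⟨_, mem_env a.2⟩, ⟨_, mem_env (a⁻¹).2⟩, Subtype.ext (LinearMap.ext fun v => by
          show (a * a⁻¹ : A).1 v = v
          rw [mul_inv_cancel]; rfl), Subtype.ext (LinearMap.ext fun v => by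
          show (a⁻¹ * a : A).1 v = v
          rw [inv_mul_cancel]; rfl)⟩
      map_one' := Units.ext (Subtype.ext rfl)
      map_mul' := fun a b => Units.ext (Subtype.ext rfl) }
  have hχ : ∀ a : A, ((χ a : env A) : Module.End (ZMod p) V) = ((a : V ≃ₗ[ZMod p] V) : V →ₗ[ZMod p] V) := fun _ => rfl
  -- the conjugation
  have hcj : ∀ g ∈ G, ∀ x ∈ env A, (unitOf g : Module.End (ZMod p) V) * x *
      (((unitOf g)⁻¹ : (Module.End (ZMod p) V)ˣ) : Module.End (ZMod p) V) ∈ env A := fun g hg =>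
    (nrm_of (hA g hg) (fun n hn => by
      have := hA g⁻¹ (G.inv_mem hg) n hn
      rwa [inv_inv] at this)).1
  let σ0 : G → (env A → env A) := fun g x => ⟨_, hcj g g.2 x x.2⟩
  have hσ0 : ∀ (g : G) (x : env A) (v : V), ((σ0 g x : env A) : Module.End (ZMod p) V) v =
      (g : V ≃ₗ[ZMod p] V) ((x : Module.End (ZMod p) V) (((g⁻¹ : G) : V ≃ₗ[ZMod p] V) v)) := fun _ _ _ => rfl
  have hgg : ∀ (g h : G) (v : V), (g : V ≃ₗ[ZMod p] V) ((h : V ≃ₗ[ZMod p] V) v) = ((g * h : G) : V ≃ₗ[ZMod p] V) v :=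
    fun _ _ _ => rfl
  have hext : ∀ {x y : env A}, (∀ v, (x : Module.End (ZMod p) V) v = (y : Module.End (ZMod p) V) v) → x = y :=
    fun h => Subtype.ext (LinearMap.ext h)
  have h1 : ∀ (g h : G) (x : env A), σ0 g (σ0 h x) = σ0 (g * h) x := by
    intro g h x
    apply hext
    intro v
    rw [hσ0, hσ0, hσ0, hgg, hgg, mul_inv_rev]
  have h2 : ∀ x : env A, σ0 1 x = x := by
    intro x
    apply hext
    intro v
    rw [hσ0, inv_one]
    rfl
  let σ : G →* (env A ≃+* env A) := MonoidHom.mk' (fun g =>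
    { toFun := σ0 g
      invFun := σ0 g⁻¹
      left_inv := fun x => by rw [h1, inv_mul_cancel, h2]
      right_inv := fun x => by rw [h1, mul_inv_cancel, h2]
      map_mul' := fun x y => by
        apply hext
        intro v
        show (g : V ≃ₗ[ZMod p] V) ((x : Module.End (ZMod p) V) ((y : Module.End (ZMod p) V)
          (((g⁻¹ : G) : V ≃ₗ[ZMod p] V) v))) = (g : V ≃ₗ[ZMod p] V) ((x : Module.End (ZMod p) V)
          (((g⁻¹ : G) : V ≃ₗ[ZMod p] V) ((g : V ≃ₗ[ZMod p] V) ((y : Module.End (ZMod p) V)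
          (((g⁻¹ : G) : V ≃ₗ[ZMod p] V) v)))))
        rw [hgg g⁻¹ g, inv_mul_cancel]
        rfl
      map_add' := fun x y => by
        apply hext
        intro v
        show (g : V ≃ₗ[ZMod p] V) ((x : Module.End (ZMod p) V) (((g⁻¹ : G) : V ≃ₗ[ZMod p] V) v) +
          (y : Module.End (ZMod p) V) (((g⁻¹ : G) : V ≃ₗ[ZMod p] V) v)) = _
        rw [map_add]
        rfl }) (by
    intro g h
    apply RingEquiv.ext
    intro x
    exact (h1 g h x).symm)
  have hσ : ∀ (g : G) (x : env A), σ g x = σ0 g x := fun _ _ => rfl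
  refine ⟨env A, F, M, χ, σ, ⟨hfin, ?_, fun a v => rfl, ?_, ?_, ?_⟩⟩
  · intro a b hab
    apply Subtype.ext
    apply LinearEquiv.ext
    intro v
    have h3 := congrArg (fun x : (env A)ˣ => ((x : env A) : Module.End (ZMod p) V) v) hab
    exact h3
  · intro g k v
    show (g : V ≃ₗ[ZMod p] V) ((k : Module.End (ZMod p) V) v) = (g : V ≃ₗ[ZMod p] V) ((k : Module.End (ZMod p) V)
      (((g⁻¹ : G) : V ≃ₗ[ZMod p] V) ((g : V ≃ₗ[ZMod p] V) v)))
    rw [hgg g⁻¹ g, inv_mul_cancel]
    rfl
  · intro g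
    constructor
    · intro h x hx
      apply LinearEquiv.ext
      intro v
      have h3 : σ0 g ⟨_, mem_env hx⟩ = ⟨_, mem_env hx⟩ := by rw [← hσ, h]; rfl
      have h4 := LinearMap.congr_fun (congrArg Subtype.val h3) ((g : V ≃ₗ[ZMod p] V) v)
      rw [hσ0, hgg g⁻¹ g, inv_mul_cancel] at h4
      exact h4
    · intro h
      apply RingEquiv.ext
      intro x
      apply hext
      intro v
      show ((σ0 g x : env A) : Module.End (ZMod p) V) v = (x : Module.End (ZMod p) V) v
      rw [hσ0]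
      have h3 : ∀ w, (g : V ≃ₗ[ZMod p] V) ((x : Module.End (ZMod p) V) w) = (x : Module.End (ZMod p) V)
          ((g : V ≃ₗ[ZMod p] V) w) := by
        refine Algebra.adjoin_induction (p := fun e _ => ∀ w, (g : V ≃ₗ[ZMod p] V) (e w) = e ((g : V ≃ₗ[ZMod p] V) w))
          ?_ ?_ ?_ ?_ x.2
        · rintro _ ⟨n, hn, rfl⟩ w
          exact LinearEquiv.congr_fun (h n hn) w
        · intro r w
          exact map_smul (g : V ≃ₗ[ZMod p] V) r w
        · intro x y _ _ hx hy w
          show (g : V ≃ₗ[ZMod p] V) (x w + y w) = x _ + y _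
          rw [map_add, hx, hy]
        · intro x y _ _ hx hy w
          show (g : V ≃ₗ[ZMod p] V) (x (y w)) = x (y _)
          rw [hx, hy]
      rw [h3, hgg g g⁻¹, mul_inv_cancel]
      rfl
  · intro K' hK'
    rw [eq_top_iff]
    rintro ⟨x, hx⟩ -
    refine Algebra.adjoin_induction (p := fun e he => (⟨e, he⟩ : env A) ∈ K') ?_ ?_ ?_ ?_ hx
    · rintro _ ⟨n, hn, rfl⟩
      exact hK' ⟨n, hn⟩
    · intro r
      have h3 : (⟨algebraMap (ZMod p) (Module.End (ZMod p) V) r, (env A).algebraMap_mem r⟩ : env A) =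
          ((r.val : ℕ) : env A) := by
        apply hext
        intro v
        have h4 : ∀ (n : ℕ) (v : V), (((n : ℕ) : env A) : Module.End (ZMod p) V) v = n • v := by
          intro n
          induction n with
          | zero =>
            intro v
            rw [Nat.cast_zero, zero_smul]
            rfl
          | succ n ih =>
            intro v
            rw [Nat.cast_succ, add_smul, one_smul, ← ih]
            rfl
        rw [h4]
        show (algebraMap (ZMod p) (Module.End (ZMod p) V) r) v = r.val • v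
        rw [Module.algebraMap_end_apply, ← Nat.cast_smul_eq_nsmul (ZMod p), ZMod.natCast_zmod_val]
      rw [h3]
      exact natCast_mem K' _
    · intro x y hx hy hx' hy'
      exact K'.add_mem hx' hy'
    · intro x y hx hy hx' hy'
      exact K'.mul_mem hx' hy' 

end Cfsg.Agent.H768.HT
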